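import Mathlib

universe u v w x
namespace Groth.Agent.SimDiagLib

open Module End

variable {k : Type u} [Field k]

lemma components_mem {V : Type w} [AddCommGroup V] [Module k V] (g : End k V) (p : Submodule k V)
    (hp : ∀ x ∈ p, g x ∈ p) (s : Finset k) :
    ∀ m : k → V, (∀ μ ∈ s, g (m μ) = μ • m μ) → ∑ μ ∈ s, m μ ∈ p → ∀ μ ∈ s, m μ ∈ p := by
  classical
  induction s using Finset.induction with
  | empty => simp
  | insert ν s hν ih =>
    intro m hm hsum
    rw [Finset.sum_insert hν] at hsum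
    have h1 : ∀ μ ∈ s, (μ - ν) • m μ ∈ p := by
      refine ih (fun μ => (μ - ν) • m μ) (fun μ hμ => ?_) ?_
      · rw [map_smul, hm μ (Finset.mem_insert_of_mem hμ), smul_comm]
      · have := sub_mem (hp _ hsum) (p.smul_mem ν hsum)
        rw [map_add, map_sum, hm ν (Finset.mem_insert_self _ _), smul_add, Finset.smul_sum,
          Finset.sum_congr rfl (fun μ hμ => hm μ (Finset.mem_insert_of_mem hμ))] at this
        simpa [sub_smul, Finset.sum_sub_distrib] using this
    have h2 : ∀ μ ∈ s, m μ ∈ p := fun μ hμ =>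
      (p.smul_mem_iff (s := μ - ν) (sub_ne_zero.2 (fun h => hν (h ▸ hμ) : μ ≠ ν))).1 (h1 μ hμ)
    intro μ hμ
    rcases Finset.mem_insert.1 hμ with rfl | hμ
    · simpa using sub_mem hsum (sum_mem h2)
    · exact h2 μ hμ

variable {R : Type v} [CommRing R] [Algebra k R] [IsNoetherianRing R]
    {V : Type w} [AddCommGroup V] [Module R V] [Module k V] [IsScalarTower k R V]
    {ι : Type x}

/-- the eigenspace as an `R`-submodule -/
noncomputable def eig (g : End R V) (μ : k) : Submodule R V :=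
  LinearMap.ker (g - algebraMap k R μ • LinearMap.id)

lemma mem_eig {g : End R V} {μ : k} {v : V} : v ∈ eig g μ ↔ g v = μ • v := by
  simp [eig, sub_eq_zero]

lemma to_eigenspace {g : End R V} {μ : k} {v : V} (h : v ∈ eig g μ) :
    v ∈ eigenspace (g.restrictScalars k : End k V) μ := by
  rw [mem_eigenspace_iff, LinearMap.restrictScalars_apply]
  exact (mem_eig (k := k) (R := R)).1 h

lemma of_eigenspace {g : End R V} {μ : k} {v : V}
    (h : v ∈ eigenspace (g.restrictScalars k : End k V) μ) : v ∈ eig g μ := by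
  rw [mem_eigenspace_iff, LinearMap.restrictScalars_apply] at h
  exact (mem_eig (k := k) (R := R)).2 h

theorem iSup_iInf_eigenspace_eq_top (f : ι → End R V) (hcomm : ∀ i j, Commute (f i) (f j))
    (hdiag : ∀ i, ⨆ μ : k, eigenspace ((f i).restrictScalars k) μ = ⊤)
    (hfin : ∀ v : V, ∃ W : Submodule R V, v ∈ W ∧ W.FG ∧ ∀ i, ∀ w ∈ W, f i w ∈ W) :
    ⨆ χ : ι → k, ⨅ i, eigenspace ((f i).restrictScalars k) (χ i) = ⊤ := by
  classical
  set S := ⨆ χ : ι → k, ⨅ i, eigenspace ((f i).restrictScalars k) (χ i)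
  rw [eq_top_iff]
  intro v _
  obtain ⟨W, hvW, hWfg, hWst⟩ := hfin v
  let Stable : Submodule R V → Prop := fun N => ∀ i, ∀ w ∈ N, f i w ∈ N
  let P : Set (Submodule R V) := {N | N ≤ W ∧
    ∃ C, C ≤ W ∧ Stable C ∧ N ⊔ C = W ∧ Disjoint N C ∧ ¬ (C : Set V) ⊆ (S : Set V)}
  by_contra hv
  have hWne : (⊥ : Submodule R V) ∈ P :=
    ⟨bot_le, W, le_rfl, hWst, bot_sup_eq _, disjoint_bot_left, fun h => hv (h hvW)⟩
  have : IsNoetherian R W := isNoetherian_of_fg_of_noetherian W hWfg
  obtain ⟨N', hN', hmax⟩ := WellFounded.has_min (wellFounded_gt (α := Submodule R W))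
    {N' | N'.map W.subtype ∈ P} ⟨⊥, by simpa using hWne⟩
  obtain ⟨-, C, hCW, hCst, hsup, hdisj, hCS⟩ := hN'
  set N := N'.map W.subtype
  -- some `f i` is not a scalar on `C`
  have key : ∃ i, ∀ μ : k, ¬ C ≤ eig (f i) μ := by
    by_contra h
    push Not at h
    choose χ hχ using h
    refine hCS fun w hw => ?_
    refine Submodule.mem_iSup_of_mem χ ?_
    rw [Submodule.mem_iInf]
    exact fun i => to_eigenspace (hχ i hw)
  obtain ⟨i, hi⟩ := key
  -- eigen-components of elements of `C` stay in `C`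
  have hdec : ∀ c ∈ C, ∃ s : Finset k, ∃ m : k → V, (∑ μ ∈ s, m μ = c) ∧
      ∀ μ ∈ s, m μ ∈ C ⊓ eig (f i) μ := by
    intro c hc
    have hc' : c ∈ ⨆ μ : k, eigenspace ((f i).restrictScalars k) μ := by
      rw [hdiag i]; exact Submodule.mem_top
    obtain ⟨m, hm, hmc⟩ := (Submodule.mem_iSup_iff_exists_finsupp _ _).1 hc'
    refine ⟨m.support, fun μ => m μ, hmc, fun μ hμ => ⟨?_, of_eigenspace (hm μ)⟩⟩
    exact components_mem ((f i).restrictScalars k) (C.restrictScalars k)
      (fun x hx => hCst i x hx) m.support m (fun μ _ => mem_eigenspace_iff.1 (hm μ))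
      (show m.sum (fun _ x => x) ∈ C.restrictScalars k by rw [hmc]; exact hc) μ hμ
  obtain ⟨c, hc, hc0⟩ : ∃ c ∈ C, c ≠ 0 := by
    by_contra h
    push Not at h
    exact hCS fun c hc => by rw [h c hc]; exact zero_mem _
  obtain ⟨ν, hν⟩ : ∃ ν, C ⊓ eig (f i) ν ≠ ⊥ := by
    obtain ⟨s, m, hm, hmem⟩ := hdec c hc
    by_contra h
    push Not at h
    refine hc0 (hm ▸ Finset.sum_eq_zero fun μ hμ => ?_)
    have hμ' := hmem μ hμ
    rw [h μ] at hμ'
    exact (Submodule.mem_bot R).1 hμ'
  let A : Submodule R V := C ⊓ eig (f i) ν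
  let B : Submodule R V := ⨆ μ : {μ : k // μ ≠ ν}, C ⊓ eig (f i) μ.1
  have hBC : B ≤ C := iSup_le fun μ => inf_le_left
  have hAB : A ⊔ B = C := by
    refine le_antisymm (sup_le inf_le_left hBC) fun c hc => ?_
    obtain ⟨s, m, rfl, hmem⟩ := hdec c hc
    refine sum_mem fun μ hμ => ?_
    by_cases h : μ = ν
    · subst h; exact Submodule.mem_sup_left (hmem μ hμ)
    · exact Submodule.mem_sup_right (Submodule.mem_iSup_of_mem ⟨μ, h⟩ (hmem μ hμ))
  have hdAB : Disjoint A B := by
    rw [Submodule.disjoint_def]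
    intro x hA hB
    have hx : x ∈ ⨆ μ : {μ : k // μ ≠ ν}, eigenspace ((f i).restrictScalars k) μ.1 := by
      refine Submodule.iSup_induction _ (motive := fun y => y ∈ ⨆ μ : {μ : k // μ ≠ ν},
        eigenspace ((f i).restrictScalars k) μ.1) hB
        (fun μ y hy => Submodule.mem_iSup_of_mem μ (to_eigenspace hy.2))
        (zero_mem _) (fun _ _ => add_mem)
    rw [iSup_subtype] at hx
    exact Submodule.disjoint_def.1
      ((eigenspaces_iSupIndep ((f i).restrictScalars k)) ν) x
      (to_eigenspace hA.2) hx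
  have hB0 : B ≠ ⊥ := by
    intro h
    refine hi ν ?_
    rw [← hAB, h, sup_bot_eq]
    exact inf_le_right
  have hst : ∀ μ : k, Stable (C ⊓ eig (f i) μ) := fun μ j w hw => by
    refine ⟨hCst j w hw.1, mem_eig.2 ?_⟩
    have := LinearMap.congr_fun (hcomm i j).eq w
    simp only [Module.End.mul_apply] at this
    rw [this, mem_eig.1 hw.2, LinearMap.map_smul_of_tower]
  have hBst : Stable B := fun j w hw =>
    Submodule.iSup_induction _ (motive := fun y => f j y ∈ B) hw
      (fun μ y hy => Submodule.mem_iSup_of_mem μ (hst μ.1 j y hy))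
      (by simp) (fun a b ha hb => by rw [map_add]; exact add_mem ha hb)
  -- enlarge `N`
  have step : ∀ X Y : Submodule R V, X ⊔ Y = C → Disjoint X Y → X ≠ ⊥ → Stable Y →
      (Y : Set V) ⊆ S := by
    intro X Y hXY hd hX hY
    by_contra hYS
    have hXC : X ≤ C := hXY ▸ le_sup_left
    have hXW : N ⊔ X ≤ W := hsup ▸ sup_le_sup_left hXC N
    have hmapeq : ((N ⊔ X).comap W.subtype).map W.subtype = N ⊔ X :=
      Submodule.map_comap_eq_self (by rwa [Submodule.range_subtype])
    refine hmax ((N ⊔ X).comap W.subtype) ?_ ?_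
    · change _ ∈ P
      rw [hmapeq]
      refine ⟨hXW, Y, (hXY ▸ le_sup_right).trans hCW, hY, ?_, ?_, hYS⟩
      · rw [sup_assoc, hXY, hsup]
      · refine Disjoint.disjoint_sup_left_of_disjoint_sup_right hd ?_
        rwa [hXY]
    · refine lt_of_le_of_ne (fun y hy => ?_) fun h => hX ?_
      · exact Submodule.mem_sup_left ⟨y, hy, rfl⟩
      · have hXN : X ≤ N := by
          intro x hx
          refine ⟨⟨x, hXW (Submodule.mem_sup_right hx)⟩, ?_, rfl⟩
          rw [h]
          exact Submodule.mem_sup_right hx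
        exact disjoint_self.1 (hdisj.mono hXN hXC)
  refine hCS ?_
  rw [← hAB]
  intro w hw
  obtain ⟨a, ha, b, hb, rfl⟩ := Submodule.mem_sup.1 hw
  exact add_mem (step B A (by rw [sup_comm, hAB]) hdAB.symm hB0 (hst ν) ha)
    (step A B hAB hdAB hν hBst hb)

end Groth.Agent.SimDiagLib
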